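import Groth.Agent.FlatSerre.Localize
import Groth.Agent.FlatSerre.Basic
import Groth.Agent.DepthLib.LocalSequence
import Groth.Agent.DepthLib.CohenMacaulay
import Groth.Agent.DepthLib.Kernel
import Mathlib

/-!
# Depth and dimension near a prime along its closed set; open loci
-/

universe u

open TensorProduct RingTheory.Sequence

namespace Groth.Agent.OpenLoci

open IsLocalRing LocCoh DepthLib

variable {A : Type u} [CommRing A]

/-- Depth of the localisation at a prime. -/
noncomputable abbrev dep (M : Type u) [AddCommGroup M] [Module A M] (q : Ideal A) [q.IsPrime] : ℕ∞ :=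
  depth (Localization.AtPrime q) (LocalizedModule q.primeCompl M)

/-- Dimension of the localisation at a prime. -/
noncomputable abbrev dm (M : Type u) [AddCommGroup M] [Module A M] (q : Ideal A) [q.IsPrime] : WithBot ℕ∞ :=
  Module.supportDim (Localization.AtPrime q) (LocalizedModule q.primeCompl M)

/-- A property of the primes near `p` on `V(p)`. -/
def Near (p : Ideal A) (P : ∀ (q : Ideal A) [q.IsPrime], Prop) : Prop :=
  ∃ g ∉ p, ∀ (q : Ideal A) [q.IsPrime], p ≤ q → g ∉ q → P q

theorem Near.mono {p : Ideal A} {P Q : ∀ (q : Ideal A) [q.IsPrime], Prop} (h : Near p P)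
    (hPQ : ∀ (q : Ideal A) [q.IsPrime], p ≤ q → P q → Q q) : Near p Q := by
  obtain ⟨g, hg, h⟩ := h
  exact ⟨g, hg, fun q _ hpq hgq => hPQ q hpq (h q hpq hgq)⟩

theorem Near.and {p : Ideal A} [p.IsPrime] {P Q : ∀ (q : Ideal A) [q.IsPrime], Prop} (h₁ : Near p P) (h₂ : Near p Q) :
    Near p (fun q _ => P q ∧ Q q) := by
  obtain ⟨g₁, hg₁, h₁⟩ := h₁
  obtain ⟨g₂, hg₂, h₂⟩ := h₂
  refine ⟨g₁ * g₂, fun h => ((‹p.IsPrime›).mem_or_mem h).elim hg₁ hg₂, fun q _ hpq hg => ⟨?_, ?_⟩⟩
  · exact h₁ q hpq fun h => hg (Ideal.mul_mem_right _ _ h)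
  · exact h₂ q hpq fun h => hg (Ideal.mul_mem_left _ _ h)

theorem Near.of_forall {p : Ideal A} [p.IsPrime] {P : ∀ (q : Ideal A) [q.IsPrime], Prop}
    (h : ∀ (q : Ideal A) [q.IsPrime], p ≤ q → P q) : Near p P :=
  ⟨1, fun h1 => (Ideal.IsPrime.ne_top ‹_›) ((Ideal.eq_top_iff_one _).mpr h1), fun q _ hpq _ => h q hpq⟩

section Exact

variable [IsNoetherianRing A] {M₁ M₂ M₃ : Type u} [AddCommGroup M₁] [Module A M₁] [AddCommGroup M₂] [Module A M₂]
  [AddCommGroup M₃] [Module A M₃] [Module.Finite A M₁] [Module.Finite A M₂] [Module.Finite A M₃]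
  {f : M₁ →ₗ[A] M₂} {g : M₂ →ₗ[A] M₃}

theorem min_le_dep_middle (hf : Function.Injective f) (hg : Function.Surjective g) (h : Function.Exact f g)
    (q : Ideal A) [q.IsPrime] : min (dep M₁ q) (dep M₃ q) ≤ dep M₂ q :=
  min_le_idealDepth_middle (LocalizedModule.map_injective q.primeCompl f hf)
    (LocalizedModule.map_surjective q.primeCompl g hg) (LocalizedModule.map_exact q.primeCompl f g h)

omit [IsNoetherianRing A] [Module.Finite A M₁] [Module.Finite A M₂] [Module.Finite A M₃] in
theorem supportDim_le_max {R : Type u} [CommRing R] {N₁ N₂ N₃ : Type u} [AddCommGroup N₁] [Module R N₁]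
    [AddCommGroup N₂] [Module R N₂] [AddCommGroup N₃] [Module R N₃] [Module.Finite R N₁] [Module.Finite R N₃]
    {f : N₁ →ₗ[R] N₂} {g : N₂ →ₗ[R] N₃}
    (hf : Function.Injective f) (hg : Function.Surjective g) (h : Function.Exact f g) :
    Module.supportDim R N₂ ≤ max (Module.supportDim R N₁) (Module.supportDim R N₃) := by
  refine iSup_le fun l => ?_
  have hh : (l.head : PrimeSpectrum R) ∈ Module.support R N₁ ∪ Module.support R N₃ := by
    rw [← Module.support_of_exact h hf hg]; exact l.head.2
  rcases hh with hh | hh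
  · refine le_max_of_le_left (le_trans ?_ (le_iSup _ (⟨l.length, fun i => ⟨(l i).1,
      Module.mem_support_mono (l.monotone (Fin.zero_le i)) hh⟩, fun i => l.step i⟩ : LTSeries (Module.support R N₁))))
    exact le_rfl
  · refine le_max_of_le_right (le_trans ?_ (le_iSup _ (⟨l.length, fun i => ⟨(l i).1,
      Module.mem_support_mono (l.monotone (Fin.zero_le i)) hh⟩, fun i => l.step i⟩ : LTSeries (Module.support R N₃))))
    exact le_rfl

theorem dm_le_max (hf : Function.Injective f) (hg : Function.Surjective g) (h : Function.Exact f g)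
    (q : Ideal A) [q.IsPrime] : dm M₂ q ≤ max (dm M₁ q) (dm M₃ q) :=
  supportDim_le_max (LocalizedModule.map_injective q.primeCompl f hf)
    (LocalizedModule.map_surjective q.primeCompl g hg) (LocalizedModule.map_exact q.primeCompl f g h)

end Exact

variable [IsNoetherianRing A]

theorem near_subsingleton {M : Type u} [AddCommGroup M] [Module A M] [Module.Finite A M] (p : Ideal A) [p.IsPrime]
    (h : Subsingleton (LocalizedModule p.primeCompl M)) :
    Near p (fun q _ => Subsingleton (LocalizedModule q.primeCompl M)) := by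
  have h' : (⟨p, inferInstance⟩ : PrimeSpectrum A) ∉ Module.support A M :=
    Module.notMem_support_iff.mpr h
  rw [Module.mem_support_iff_of_finite] at h'
  obtain ⟨g, hg, hgp⟩ := SetLike.not_le_iff_exists.mp h'
  exact ⟨g, hgp, fun q hq _ hgq => Module.notMem_support_iff.mp
    (fun hs : (⟨q, hq⟩ : PrimeSpectrum A) ∈ _ => hgq (Module.mem_support_iff_of_finite.mp hs hg))⟩

/-- Modules killed by a power of `p` have depth at least that of `A / p` near `p`. -/
theorem near_dep_killed (p : Ideal A) [p.IsPrime] (k : ℕ) (M : Type u) [AddCommGroup M] [Module A M] [Module.Finite A M]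
    (hM : ∀ a ∈ p ^ k, ∀ x : M, a • x = 0) : Near p (fun q _ => dep (A ⧸ p) q ≤ dep M q) := by
  suffices key : (∀ a ∈ p ^ k, ∀ x : M, a • x = 0) → Near p (fun q _ => dep (A ⧸ p) q ≤ dep M q) from key hM
  clear hM
  induction ‹Module.Finite A M› using IsNoetherianRing.induction_on_isQuotientEquivQuotientPrime with
  | subsingleton N =>
    intro _
    refine Near.of_forall fun q _ _ => ?_
    haveI : Subsingleton (LocalizedModule q.primeCompl N) :=
      Module.notMem_support_iff.mp (show (⟨q, inferInstance⟩ : PrimeSpectrum A) ∉ Module.support A N by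
        rw [Module.support_eq_empty_iff.mpr inferInstance]; exact Set.notMem_empty _)
    rw [show dep N q = ⊤ from depth_eq_top_of_subsingleton]
    exact le_top
  | quotient N P e =>
    intro hN
    have hpP : p ≤ P.asIdeal := by
      refine Ideal.IsPrime.le_of_pow_le (n := k) fun a ha => ?_
      have h := congrArg e (hN a ha (e.symm (Ideal.Quotient.mk _ 1)))
      rw [map_smul, e.apply_symm_apply, map_zero, map_one, Algebra.smul_def, mul_one] at h
      exact Ideal.Quotient.eq_zero_iff_mem.mp h
    rcases hpP.eq_or_lt with rfl | hlt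
    · refine Near.of_forall fun q _ _ => (depth_congr (localizedCongr q.primeCompl e)).ge
    obtain ⟨g, hgP, hgp⟩ := SetLike.exists_of_lt hlt
    refine ⟨g, hgp, fun q _ _ hgq => ?_⟩
    haveI : Subsingleton (LocalizedModule q.primeCompl N) := by
      refine Module.notMem_support_iff.mp (fun hs : (⟨q, inferInstance⟩ : PrimeSpectrum A) ∈ _ => hgq ?_)
      refine Module.mem_support_iff_of_finite.mp hs (Module.mem_annihilator.mpr fun x => e.injective ?_)
      rw [map_smul, map_zero]
      obtain ⟨y, hy⟩ := Ideal.Quotient.mk_surjective (e x)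
      rw [← hy, Algebra.smul_def, Ideal.Quotient.algebraMap_eq, ← map_mul, Ideal.Quotient.eq_zero_iff_mem]
      exact Ideal.mul_mem_right _ _ hgP
    exact le_top.trans (show dep N q = ⊤ from depth_eq_top_of_subsingleton).ge
  | exact N₁ N₂ N₃ f g hf hg hfg h₁ h₃ =>
    intro hN
    have r₁ := h₁ fun a ha x => hf (by rw [map_smul, hN a ha, map_zero])
    have r₃ := h₃ fun a ha x => by
      obtain ⟨y, rfl⟩ := hg x
      rw [← map_smul, hN a ha, map_zero]
    haveI : Module.Finite A N₁ := Module.Finite.of_injective f hf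
    haveI : Module.Finite A N₃ := Module.Finite.of_surjective g hg
    exact (r₁.and r₃).mono fun q _ _ h => le_trans (le_min h.1 h.2) (min_le_dep_middle hf hg hfg q)

theorem dm_killed_le (p : Ideal A) [p.IsPrime] (k : ℕ) (M : Type u) [AddCommGroup M] [Module A M] [Module.Finite A M]
    (hM : ∀ a ∈ p ^ k, ∀ x : M, a • x = 0) (q : Ideal A) [q.IsPrime] : dm M q ≤ dm (A ⧸ p) q := by
  refine supportDim_mono_of_support_subset (support_localization_mono (fun z hz => ?_) q)
  rw [Module.mem_support_iff_of_finite, Ideal.annihilator_quotient]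
  refine z.2.le_of_pow_le (n := k) fun a ha => ?_
  exact Module.mem_support_iff_of_finite.mp hz (Module.mem_annihilator.mpr (hM a ha))

theorem nontrivial_quotient_of_le (p : Ideal A) [p.IsPrime] (q : Ideal A) [q.IsPrime] (h : p ≤ q) :
    Nontrivial (LocalizedModule q.primeCompl (A ⧸ p)) :=
  Module.mem_support_iff.mp (Module.mem_support_iff_of_finite.mpr (by rw [Ideal.annihilator_quotient]; exact h) :
    (⟨q, inferInstance⟩ : PrimeSpectrum A) ∈ _)

/-- The bounds of depth and dimension along `V(p)`. -/
def Bound (M : Type u) [AddCommGroup M] [Module A M] (p : Ideal A) [p.IsPrime] (q : Ideal A) [q.IsPrime] : Prop :=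
  dep M p + dep (A ⧸ p) q ≤ dep M q ∧ dm M q ≤ dm M p + dm (A ⧸ p) q

theorem bound_of_subsingleton (M : Type u) [AddCommGroup M] [Module A M] (p : Ideal A) [p.IsPrime] (q : Ideal A)
    [q.IsPrime] (h : Subsingleton (LocalizedModule q.primeCompl M)) : Bound M p q := by
  refine ⟨?_, ?_⟩
  · rw [show dep M q = ⊤ from depth_eq_top_of_subsingleton]; exact le_top
  · rw [show dm M q = ⊥ from Module.supportDim_eq_bot_of_subsingleton _ _]; exact bot_le

theorem near_bound_zero {M : Type u} [AddCommGroup M] [Module A M] [Module.Finite A M] (p : Ideal A) [p.IsPrime]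
    (h : Subsingleton (LocalizedModule p.primeCompl M)) : Near p (fun q _ => Bound M p q) :=
  (near_subsingleton p h).mono fun q _ _ hq => bound_of_subsingleton M p q hq

/-- Passage from `M / (rs)` to `M`. -/
theorem near_bound_of_regular {M : Type u} [AddCommGroup M] [Module A M] [Module.Finite A M] (p : Ideal A) [p.IsPrime]
    [Nontrivial (LocalizedModule p.primeCompl M)] {g : A} (hg : g ∉ p) {rs : List A} (hrsp : ∀ a ∈ rs, a ∈ p)
    (hreg : ∀ T : Submonoid A, (∃ t, t * g ∈ T) → RegOn T M rs)
    (h : Near p (fun q _ => Bound (M ⧸ (Ideal.ofList rs • ⊤ : Submodule A M)) p q)) :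
    Near p (fun q _ => Bound M p q) := by
  obtain ⟨hp1, hp2⟩ := depth_supportDim_quot_list p hrsp (hreg p.primeCompl ⟨1, by simpa using hg⟩)
  have hg' : Near p (fun q _ => g ∉ q) := ⟨g, hg, fun q _ _ hq => hq⟩
  refine (hg'.and h).mono fun q _ hpq hq => ?_
  obtain ⟨hgq, hb1, hb2⟩ := hq
  rcases subsingleton_or_nontrivial (LocalizedModule q.primeCompl M) with hs | hn
  · exact bound_of_subsingleton M p q hs
  obtain ⟨hq1, hq2⟩ := depth_supportDim_quot_list q (fun a ha => hpq (hrsp a ha)) (hreg q.primeCompl ⟨1, by simpa using hgq⟩)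
  refine ⟨?_, ?_⟩
  · rw [show dep M p = _ from hp1.symm, show dep M q = _ from hq1.symm, add_right_comm]
    exact add_le_add hb1 le_rfl
  · rw [show dm M p = _ from hp2.symm, show dm M q = _ from hq2.symm, add_right_comm]
    exact add_le_add hb2 le_rfl

theorem near_bound_aux (p : Ideal A) [p.IsPrime] (n : ℕ) : ∀ (M : Type u) [AddCommGroup M] [Module A M] [Module.Finite A M],
    dm M p ≤ (n : WithBot ℕ∞) → Near p (fun q _ => Bound M p q) := by
  induction n using Nat.strong_induction_on with
  | _ n ih =>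
  have reg : ∀ (M : Type u) [AddCommGroup M] [Module A M] [Module.Finite A M],
      dm M p ≤ (n : WithBot ℕ∞) → 1 ≤ dep M p → Near p (fun q _ => Bound M p q) := by
    intro M _ _ _ hM hd
    rcases subsingleton_or_nontrivial (LocalizedModule p.primeCompl M) with hs | hn
    · exact near_bound_zero p hs
    obtain ⟨e, he⟩ := exists_nat_depth (R := Localization.AtPrime p) (LocalizedModule p.primeCompl M)
    obtain ⟨g, hg, rs, hlen, hrsp, hreg⟩ := exists_regOn_of_depth_eq e p he
    obtain ⟨hp1, hp2⟩ := depth_supportDim_quot_list p hrsp (hreg p.primeCompl ⟨1, by simpa using hg⟩)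
    obtain ⟨d, hd'⟩ := exists_nat_supportDim (R := Localization.AtPrime p) (LocalizedModule p.primeCompl M)
    have he1 : 1 ≤ e := by
      have : (1 : ℕ∞) ≤ (e : ℕ∞) := hd.trans he.le
      exact_mod_cast this
    have hdn : d ≤ n := by
      have : (d : WithBot ℕ∞) ≤ n := hd'.ge.trans hM
      exact_mod_cast this
    refine near_bound_of_regular p hg hrsp hreg ?_
    rcases subsingleton_or_nontrivial (LocalizedModule p.primeCompl (M ⧸ (Ideal.ofList rs • ⊤ : Submodule A M))) with hs | hn'
    · exact near_bound_zero p hs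
    obtain ⟨d', hd''⟩ := exists_nat_supportDim (R := Localization.AtPrime p)
      (LocalizedModule p.primeCompl (M ⧸ (Ideal.ofList rs • ⊤ : Submodule A M)))
    rw [hd'', hd', hlen] at hp2
    have : d' + e = d := by exact_mod_cast hp2
    exact ih d' (by omega) _ hd''.le
  intro M _ _ _ hM
  rcases subsingleton_or_nontrivial (LocalizedModule p.primeCompl M) with hs | hn
  · exact near_bound_zero p hs
  by_cases hd : 1 ≤ dep M p
  · exact reg M hM hd
  have hd0 : dep M p = 0 := ENat.lt_one_iff_eq_zero.mp (not_le.mp hd)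
  let F : ℕ →o Submodule A M := ⟨fun k => Submodule.torsionBySet A M (p ^ k : Ideal A),
    fun a b hab => Submodule.torsionBySet_le_torsionBySet_of_subset
      (SetLike.coe_subset_coe.mpr (Ideal.pow_le_pow_right hab))⟩
  obtain ⟨k, hk⟩ := monotone_stabilizes_iff_noetherian.mpr (inferInstance : IsNoetherian A M) F
  let H := F k
  have hH : ∀ a ∈ p ^ k, ∀ x : H, a • x = 0 := fun a ha x =>
    Subtype.ext ((Submodule.mem_torsionBySet_iff _ _).mp x.2 ⟨a, ha⟩)
  have hdep : 1 ≤ dep (M ⧸ H) p := by
    by_contra hc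
    have h0 : dep (M ⧸ H) p = 0 := ENat.lt_one_iff_eq_zero.mp (not_le.mp hc)
    obtain ⟨hpr, hz⟩ := isAssociatedPrime_iff.mp ((depth_localization_eq_zero_iff (M := M ⧸ H) p).mp h0)
    obtain ⟨z, hz⟩ := hz
    obtain ⟨m, rfl⟩ := Submodule.Quotient.mk_surjective _ z
    have hmem : m ∈ F (k + 1) := by
      refine (Submodule.mem_torsionBySet_iff _ _).mpr fun a => ?_
      obtain ⟨a, ha⟩ := a
      show a • m = 0
      rw [SetLike.mem_coe, pow_succ] at ha
      induction ha using Submodule.mul_induction_on' with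
      | mem_mul_mem b hb c hc =>
        rw [mul_smul]
        have hcm : c • m ∈ H := by
          rw [hz, Submodule.mem_colon_singleton, Submodule.mem_bot, ← Submodule.Quotient.mk_smul,
            Submodule.Quotient.mk_eq_zero] at hc
          exact hc
        exact (Submodule.mem_torsionBySet_iff _ _).mp hcm ⟨b, hb⟩
      | add b _ c _ hb hc => rw [add_smul, hb, hc, add_zero]
    rw [← hk (k + 1) k.le_succ] at hmem
    refine hpr.ne_top (eq_top_iff.mpr fun a _ => ?_)
    rw [hz, Submodule.mem_colon_singleton, Submodule.mem_bot, (Submodule.Quotient.mk_eq_zero _).mpr hmem, smul_zero]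
  have hle : dm (M ⧸ H) p ≤ dm M p :=
    Module.supportDim_le_of_surjective (LocalizedModule.map p.primeCompl H.mkQ)
      (LocalizedModule.map_surjective _ _ H.mkQ_surjective)
  refine ((reg (M ⧸ H) (hle.trans hM) hdep).and (near_dep_killed p k H hH)).mono fun q _ hpq hq => ?_
  obtain ⟨⟨hb1, hb2⟩, hH'⟩ := hq
  have hex : Function.Exact H.subtype H.mkQ := LinearMap.exact_subtype_mkQ H
  refine ⟨?_, ?_⟩
  · rw [hd0, zero_add]
    exact le_trans (le_min hH' (le_add_self.trans hb1)) (min_le_dep_middle Subtype.val_injective H.mkQ_surjective hex q)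
  · refine (dm_le_max Subtype.val_injective H.mkQ_surjective hex q).trans (max_le ?_ (hb2.trans (add_le_add hle le_rfl)))
    exact (dm_killed_le p k H hH q).trans (le_add_of_nonneg_left (zero_le_supportDim _))

/-- Depth and dimension along `V(p)` near `p`. -/
theorem near_bound (p : Ideal A) [p.IsPrime] (M : Type u) [AddCommGroup M] [Module A M] [Module.Finite A M] :
    Near p (fun q _ => Bound M p q) := by
  rcases subsingleton_or_nontrivial (LocalizedModule p.primeCompl M) with hs | hn
  · exact near_bound_zero p hs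
  obtain ⟨d, hd⟩ := exists_nat_supportDim (R := Localization.AtPrime p) (LocalizedModule p.primeCompl M)
  exact near_bound_aux p d M hd.le

end Groth.Agent.OpenLoci
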