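import Groth.Agent.OpenLoci.Basic
import Groth.Agent.FlatAscent.AtPrime
import Mathlib

/-!
# Openness of the codepth and `(S_n)` loci
-/

universe u

open TensorProduct RingTheory.Sequence

namespace Groth.Agent.OpenLoci

open IsLocalRing LocCoh DepthLib

variable {A : Type u} [CommRing A] [IsNoetherianRing A]

/-- A criterion for openness. -/
theorem isOpen_of_near (E : Set (PrimeSpectrum A))
    (hgen : ∀ x y : PrimeSpectrum A, x ≤ y → y ∈ E → x ∈ E)
    (h : ∀ x : PrimeSpectrum A, x ∈ E → Near x.asIdeal (fun q hq => (⟨q, hq⟩ : PrimeSpectrum A) ∈ E)) : IsOpen E := by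
  classical
  rw [← isClosed_compl_iff, PrimeSpectrum.isClosed_iff_zeroLocus_ideal]
  let J := PrimeSpectrum.vanishingIdeal Eᶜ
  refine ⟨J, subset_antisymm (PrimeSpectrum.subset_zeroLocus_vanishingIdeal _) fun x hx hxE => ?_⟩
  obtain ⟨P, hP, hPx⟩ := Ideal.exists_minimalPrimes_le (show J ≤ x.asIdeal from hx)
  haveI := hP.1.1
  have hPE : (⟨P, hP.1.1⟩ : PrimeSpectrum A) ∈ E := hgen _ _ hPx hxE
  obtain ⟨g, hg, hgE⟩ := h _ hPE
  let S := (J.finite_minimalPrimes_of_isNoetherianRing).toFinset.erase P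
  have hS : ∀ P' ∈ S, ∃ a ∈ P', a ∉ P := fun P' hP' => by
    obtain ⟨hne, hmem⟩ := Finset.mem_erase.1 hP'
    rw [Set.Finite.mem_toFinset] at hmem
    exact Set.not_subset.1 fun hle => hne (le_antisymm hle (hP.2 ⟨hmem.1.1, hmem.1.2⟩ hle))
  choose! a ha ha' using hS
  have hprod : g * ∏ P' ∈ S, a P' ∈ J := by
    refine (PrimeSpectrum.mem_vanishingIdeal _ _).2 fun z hz => ?_
    by_cases hgz : g ∈ z.asIdeal
    · exact Ideal.mul_mem_right _ _ hgz
    have hnP : ¬ P ≤ z.asIdeal := fun hle => hz (hgE z.asIdeal hle hgz)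
    obtain ⟨P', hP', hP'z⟩ :=
      Ideal.exists_minimalPrimes_le (show J ≤ z.asIdeal from fun w hw =>
        (PrimeSpectrum.mem_vanishingIdeal _ _).1 hw z hz)
    have hS' : P' ∈ S := Finset.mem_erase.2 ⟨fun he => hnP (he ▸ hP'z), by simpa using hP'⟩
    obtain ⟨w, hw⟩ := Finset.dvd_prod_of_mem a hS'
    rw [hw]
    exact Ideal.mul_mem_left _ _ (Ideal.mul_mem_right _ _ (hP'z (ha P' hS')))
  rcases hP.1.1.mem_or_mem (hP.1.2 hprod) with h1 | h1
  · exact hg h1
  · obtain ⟨P', hP', hP''⟩ := (Ideal.IsPrime.prod_mem_iff (p := P)).1 h1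
    exact ha' P' hP' hP''

/-- Codepth does not grow under generisation: local form. -/
theorem supportDim_localization_add_depth_le {R : Type u} [CommRing R] [IsNoetherianRing R] [IsLocalRing R]
    (M : Type u) [AddCommGroup M] [Module R M] [Module.Finite R M] (p : Ideal R) [p.IsPrime]
    [Nontrivial (LocalizedModule p.primeCompl M)] :
    dm M p + ((depth R M : ℕ∞) : WithBot ℕ∞) ≤ Module.supportDim R M + ((dep M p : ℕ∞) : WithBot ℕ∞) := by
  have hmem : (⟨p, inferInstance⟩ : PrimeSpectrum R) ∈ Module.support R M := Module.mem_support_iff.mpr ‹_›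
  calc dm M p + ((depth R M : ℕ∞) : WithBot ℕ∞)
      ≤ dm M p + (((dep M p : ℕ∞) : WithBot ℕ∞) + ringKrullDim (R ⧸ p)) :=
        add_le_add le_rfl (depth_le_depth_localization_add p)
    _ = (dm M p + ringKrullDim (R ⧸ p)) + ((dep M p : ℕ∞) : WithBot ℕ∞) := by abel
    _ ≤ _ := add_le_add (supportDim_localization_add_le (⟨p, inferInstance⟩ : PrimeSpectrum R) hmem) le_rfl

variable (M : Type u) [AddCommGroup M] [Module A M] [Module.Finite A M]

omit [IsNoetherianRing A] in
theorem nontrivial_of_le {p q : Ideal A} [p.IsPrime] [q.IsPrime] (hpq : p ≤ q)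
    (h : Nontrivial (LocalizedModule p.primeCompl M)) : Nontrivial (LocalizedModule q.primeCompl M) :=
  Module.mem_support_iff.mp (Module.mem_support_mono (p := (⟨p, inferInstance⟩ : PrimeSpectrum A))
    (q := ⟨q, inferInstance⟩) hpq (Module.mem_support_iff.mpr h))

theorem exists_prime_localization {p q : Ideal A} [p.IsPrime] [q.IsPrime] (hpq : p ≤ q) :
    ∃ (Q : Ideal (Localization.AtPrime q)) (_ : Q.IsPrime),
      dep (LocalizedModule q.primeCompl M) Q = dep M p ∧ dm (LocalizedModule q.primeCompl M) Q = dm M p := by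
  have hdis : Disjoint (q.primeCompl : Set A) p := Set.disjoint_left.mpr fun x hx hx' => hx (hpq hx')
  haveI : (p.map (algebraMap A (Localization.AtPrime q))).IsPrime :=
    IsLocalization.isPrime_of_isPrime_disjoint q.primeCompl _ p inferInstance hdis
  exact ⟨_, inferInstance, FlatSerre.invariants_localized_twice M q _ p
    (IsLocalization.comap_map_of_isPrime_disjoint q.primeCompl _ inferInstance hdis)⟩

theorem dm_add_dep_le {p q : Ideal A} [p.IsPrime] [q.IsPrime] (hpq : p ≤ q)
    (hn : Nontrivial (LocalizedModule p.primeCompl M)) :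
    dm M p + ((dep M q : ℕ∞) : WithBot ℕ∞) ≤ dm M q + ((dep M p : ℕ∞) : WithBot ℕ∞) := by
  obtain ⟨Q, _, e1, e2⟩ := exists_prime_localization M hpq
  haveI : Module.Finite (Localization.AtPrime q) (LocalizedModule q.primeCompl M) :=
    Module.Finite.of_isLocalizedModule q.primeCompl (LocalizedModule.mkLinearMap q.primeCompl M)
  haveI : Nontrivial (LocalizedModule Q.primeCompl (LocalizedModule q.primeCompl M)) := by
    rw [← Module.supportDim_ne_bot_iff_nontrivial (R := Localization.AtPrime Q)]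
    show dm (LocalizedModule q.primeCompl M) Q ≠ ⊥
    rw [e2]
    exact Module.supportDim_ne_bot_of_nontrivial _ _
  have := supportDim_localization_add_depth_le (LocalizedModule q.primeCompl M) Q
  rwa [e1, e2] at this

theorem dm_mono {p q : Ideal A} [p.IsPrime] [q.IsPrime] (hpq : p ≤ q) : dm M p ≤ dm M q := by
  rcases subsingleton_or_nontrivial (LocalizedModule p.primeCompl M) with hs | hn
  · exact (Module.supportDim_eq_bot_of_subsingleton _ _).trans_le bot_le
  obtain ⟨Q, _, e1, e2⟩ := exists_prime_localization M hpq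
  haveI : Module.Finite (Localization.AtPrime q) (LocalizedModule q.primeCompl M) :=
    Module.Finite.of_isLocalizedModule q.primeCompl (LocalizedModule.mkLinearMap q.primeCompl M)
  have hmem : (⟨Q, inferInstance⟩ : PrimeSpectrum (Localization.AtPrime q)) ∈
      Module.support (Localization.AtPrime q) (LocalizedModule q.primeCompl M) := by
    rw [Module.mem_support_iff, ← Module.supportDim_ne_bot_iff_nontrivial (R := Localization.AtPrime Q)]
    show dm (LocalizedModule q.primeCompl M) Q ≠ ⊥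
    rw [e2]
    exact Module.supportDim_ne_bot_of_nontrivial _ _
  have h := supportDim_localization_add_le (M := LocalizedModule q.primeCompl M) _ hmem
  rw [show Module.supportDim _ (LocalizedModule Q.primeCompl (LocalizedModule q.primeCompl M)) = dm M p from e2] at h
  exact (le_add_of_nonneg_right (by
    haveI : Nontrivial (Localization.AtPrime q ⧸ Q) := Ideal.Quotient.nontrivial_iff.mpr Ideal.IsPrime.ne_top'
    exact ringKrullDim_nonneg_of_nontrivial)).trans h

/-- Codepth at most `n`. -/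
def codepthLocus (n : ℕ) : Set (PrimeSpectrum A) :=
  {x | dm M x.asIdeal ≤ ((dep M x.asIdeal : ℕ∞) : WithBot ℕ∞) + n}

theorem codepthLocus_gen (n : ℕ) (x y : PrimeSpectrum A) (hxy : x ≤ y) (hy : y ∈ codepthLocus (A := A) M n) :
    x ∈ codepthLocus (A := A) M n := by
  show dm M x.asIdeal ≤ _
  rcases subsingleton_or_nontrivial (LocalizedModule x.asIdeal.primeCompl M) with hs | hn
  · exact (Module.supportDim_eq_bot_of_subsingleton _ _).trans_le bot_le
  haveI := nontrivial_of_le M hxy hn
  have h := dm_add_dep_le M hxy hn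
  obtain ⟨a, ha⟩ := exists_nat_supportDim (R := Localization.AtPrime x.asIdeal) (LocalizedModule x.asIdeal.primeCompl M)
  obtain ⟨b, hb⟩ := exists_nat_supportDim (R := Localization.AtPrime y.asIdeal) (LocalizedModule y.asIdeal.primeCompl M)
  obtain ⟨c, hc⟩ := exists_nat_depth (R := Localization.AtPrime x.asIdeal) (LocalizedModule x.asIdeal.primeCompl M)
  obtain ⟨d, hd⟩ := exists_nat_depth (R := Localization.AtPrime y.asIdeal) (LocalizedModule y.asIdeal.primeCompl M)
  have hy' : dm M y.asIdeal ≤ _ := hy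
  rw [show dm M x.asIdeal = _ from ha, show dm M y.asIdeal = _ from hb, show dep M y.asIdeal = _ from hd,
    show dep M x.asIdeal = _ from hc] at h
  rw [show dm M y.asIdeal = _ from hb, show dep M y.asIdeal = _ from hd] at hy'
  rw [show dm M x.asIdeal = _ from ha, show dep M x.asIdeal = _ from hc]
  have h' : a + d ≤ b + c := by exact_mod_cast h
  have hy'' : b ≤ d + n := by exact_mod_cast hy'
  exact_mod_cast (by omega : a ≤ c + n)

/-- `A / p` is Cohen–Macaulay near `p`, for all `p`. -/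
def GenCM (A : Type u) [CommRing A] : Prop :=
  ∀ (p : Ideal A) [p.IsPrime], Near p (fun q _ => dm (A ⧸ p) q ≤ ((dep (A ⧸ p) q : ℕ∞) : WithBot ℕ∞))

theorem isOpen_codepthLocus (hA : GenCM A) (n : ℕ) : IsOpen (codepthLocus (A := A) M n) := by
  refine isOpen_of_near _ (codepthLocus_gen M n) fun x hx => ?_
  refine ((near_bound x.asIdeal M).and (hA x.asIdeal)).mono fun q hq hpq h => ?_
  obtain ⟨⟨hb1, hb2⟩, hcm⟩ := h
  show dm M q ≤ ((dep M q : ℕ∞) : WithBot ℕ∞) + n
  refine (hb2.trans (add_le_add hx hcm)).trans ?_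
  rw [add_right_comm, ← WithBot.coe_add]
  exact add_le_add (WithBot.coe_le_coe.mpr hb1) le_rfl

/-- The primes with codepth above `j` and dimension at most `j + n` below them. -/
def badAt (n j : ℕ) : Set (PrimeSpectrum A) :=
  {y | ∃ x : PrimeSpectrum A, x ≤ y ∧ x ∉ codepthLocus (A := A) M j ∧ dm M x.asIdeal ≤ ((j + n : ℕ) : WithBot ℕ∞)}

theorem isClosed_badAt (hA : GenCM A) (n j : ℕ) : IsClosed (badAt (A := A) M n j) := by
  classical
  obtain ⟨J, hJ⟩ := (PrimeSpectrum.isClosed_iff_zeroLocus_ideal _).mp (isOpen_codepthLocus (A := A) M hA j).isClosed_compl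
  let S := {P : PrimeSpectrum A | P.asIdeal ∈ J.minimalPrimes ∧ dm M P.asIdeal ≤ ((j + n : ℕ) : WithBot ℕ∞)}
  have hS : S.Finite :=
    (J.finite_minimalPrimes_of_isNoetherianRing.preimage (fun x _ y _ h => PrimeSpectrum.ext h)).subset
      (fun P hP => hP.1)
  have : badAt (A := A) M n j = ⋃ P ∈ S, PrimeSpectrum.zeroLocus (P.asIdeal : Set A) := by
    ext y
    simp only [Set.mem_iUnion, PrimeSpectrum.mem_zeroLocus, SetLike.coe_subset_coe]
    constructor
    · rintro ⟨x, hxy, hx, hd⟩
      have hx' : x ∈ (codepthLocus (A := A) M j)ᶜ := hx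
      rw [hJ, PrimeSpectrum.mem_zeroLocus, SetLike.coe_subset_coe] at hx'
      obtain ⟨P, hP, hle⟩ := Ideal.exists_minimalPrimes_le hx'
      haveI := hP.1.1
      exact ⟨⟨P, hP.1.1⟩, ⟨hP, (dm_mono M hle).trans hd⟩, hle.trans hxy⟩
    · rintro ⟨P, ⟨hP, hd⟩, hle⟩
      refine ⟨P, hle, ?_, hd⟩
      have : P ∈ (codepthLocus (A := A) M j)ᶜ := by
        rw [hJ, PrimeSpectrum.mem_zeroLocus, SetLike.coe_subset_coe]; exact hP.1.2
      exact this
  rw [this]
  exact hS.isClosed_biUnion fun P _ => PrimeSpectrum.isClosed_zeroLocus _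

theorem exists_forall_mem_codepthLocus (hA : GenCM A) : ∃ N : ℕ, ∀ x : PrimeSpectrum A, x ∈ codepthLocus (A := A) M N := by
  have hcov : (Set.univ : Set (PrimeSpectrum A)) ⊆ ⋃ j, codepthLocus (A := A) M j := fun x _ => by
    refine Set.mem_iUnion.mpr ?_
    rcases subsingleton_or_nontrivial (LocalizedModule x.asIdeal.primeCompl M) with hs | hn
    · exact ⟨0, (Module.supportDim_eq_bot_of_subsingleton _ _).trans_le bot_le⟩
    obtain ⟨a, ha⟩ := exists_nat_supportDim (R := Localization.AtPrime x.asIdeal) (LocalizedModule x.asIdeal.primeCompl M)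
    exact ⟨a, ha.le.trans (le_add_of_nonneg_left (WithBot.coe_le_coe.mpr bot_le))⟩
  obtain ⟨t, ht⟩ := isCompact_univ.elim_finite_subcover _ (fun j => isOpen_codepthLocus (A := A) M hA j) hcov
  refine ⟨t.sup id, fun x => ?_⟩
  obtain ⟨j, hj, hx⟩ := Set.mem_iUnion₂.mp (ht (Set.mem_univ x))
  have hjN : j ≤ t.sup id := Finset.le_sup (f := id) hj
  exact le_trans (show dm M x.asIdeal ≤ _ from hx) (add_le_add le_rfl (by exact_mod_cast hjN))

theorem isOpen_hasSkAt (hA : GenCM A) (n : ℕ) : IsOpen {x : PrimeSpectrum A | EGA4.HasSkAt n A M x.asIdeal} := by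
  obtain ⟨N, hN⟩ := exists_forall_mem_codepthLocus (A := A) M hA
  have heq : {x : PrimeSpectrum A | EGA4.HasSkAt n A M x.asIdeal} = (⋃ j ∈ Set.Iio N, badAt (A := A) M n j)ᶜ := by
    ext y
    simp only [Set.mem_compl_iff, Set.mem_iUnion, Set.mem_Iio, not_exists]
    rw [show (y ∈ {x : PrimeSpectrum A | EGA4.HasSkAt n A M x.asIdeal}) = EGA4.HasSkAt n A M y.asIdeal from rfl,
      FlatSerre.hasSkAt_iff]
    constructor
    · rintro h j - ⟨x, hxy, hx, hd⟩
      have hcm := h x.asIdeal hxy
      change min (n : WithBot ℕ∞) (dm M x.asIdeal) ≤ ((dep M x.asIdeal : ℕ∞) : WithBot ℕ∞) at hcm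
      haveI : Nontrivial (LocalizedModule x.asIdeal.primeCompl M) := by
        by_contra hc
        haveI := not_nontrivial_iff_subsingleton.mp hc
        exact hx ((Module.supportDim_eq_bot_of_subsingleton _ _).trans_le bot_le)
      obtain ⟨a, ha⟩ := exists_nat_supportDim (R := Localization.AtPrime x.asIdeal) (LocalizedModule x.asIdeal.primeCompl M)
      obtain ⟨c, hc⟩ := exists_nat_depth (R := Localization.AtPrime x.asIdeal) (LocalizedModule x.asIdeal.primeCompl M)
      change ¬ dm M x.asIdeal ≤ _ at hx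
      rw [show dm M x.asIdeal = _ from ha, show dep M x.asIdeal = _ from hc] at hx hcm
      rw [show dm M x.asIdeal = _ from ha] at hd
      have hx' : ¬ a ≤ c + j := fun h => hx (by exact_mod_cast h)
      have hd' : a ≤ j + n := by exact_mod_cast hd
      rcases min_le_iff.mp hcm with hcm' | hcm'
      · have : n ≤ c := by exact_mod_cast hcm'
        omega
      · have : a ≤ c := by exact_mod_cast hcm'
        omega
    · intro h p _ hle
      change min (n : WithBot ℕ∞) (dm M p) ≤ _
      rcases subsingleton_or_nontrivial (LocalizedModule p.primeCompl M) with hs | hn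
      · exact (min_le_right _ _).trans ((Module.supportDim_eq_bot_of_subsingleton _ _).trans_le bot_le)
      obtain ⟨a, ha⟩ := exists_nat_supportDim (R := Localization.AtPrime p) (LocalizedModule p.primeCompl M)
      obtain ⟨c, hc⟩ := exists_nat_depth (R := Localization.AtPrime p) (LocalizedModule p.primeCompl M)
      show min (n : WithBot ℕ∞) (dm M p) ≤ ((dep M p : ℕ∞) : WithBot ℕ∞)
      rw [show dm M p = _ from ha, show dep M p = _ from hc]
      by_contra hlt
      have hlt₁ : ¬ n ≤ c := fun h => hlt (min_le_iff.mpr (Or.inl (by exact_mod_cast h)))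
      have hlt₂ : ¬ a ≤ c := fun h => hlt (min_le_iff.mpr (Or.inr (by exact_mod_cast h)))
      have hNp : dm M p ≤ ((dep M p : ℕ∞) : WithBot ℕ∞) + N := hN ⟨p, inferInstance⟩
      rw [show dm M p = _ from ha, show dep M p = _ from hc] at hNp
      have hNp' : a ≤ c + N := by exact_mod_cast hNp
      refine h (a - c - 1) (by omega) ⟨⟨p, inferInstance⟩, hle, ?_, ?_⟩
      · show ¬ dm M p ≤ ((dep M p : ℕ∞) : WithBot ℕ∞) + (a - c - 1 : ℕ)
        rw [show dm M p = _ from ha, show dep M p = _ from hc]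
        intro hh
        have key : ∀ j : ℕ, (a : WithBot ℕ∞) ≤ ((c : ℕ∞) : WithBot ℕ∞) + (j : ℕ) → a ≤ c + j := fun j h => by exact_mod_cast h
        have := key _ hh
        omega
      · show dm M p ≤ _
        rw [show dm M p = _ from ha]
        exact_mod_cast (by omega : a ≤ a - c - 1 + n)
  rw [heq, isOpen_compl_iff]
  exact (Set.finite_Iio N).isClosed_biUnion fun j _ => isClosed_badAt (A := A) M hA n j

omit [IsNoetherianRing A] [Module.Finite A M] in
/-- `(A/p)_q` as a quotient ring. -/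
theorem exists_quotient_invariants (p q : Ideal A) [p.IsPrime] [q.IsPrime] (hpq : p ≤ q) :
    ∃ (Q : Ideal (A ⧸ p)) (_ : Q.IsPrime), Q = q.map (Ideal.Quotient.mk p) ∧
      dm (A ⧸ p) q = ringKrullDim (Localization.AtPrime Q) ∧
      dep (A ⧸ p) q = depth (Localization.AtPrime Q) (Localization.AtPrime Q) := by
  haveI : (q.map (Ideal.Quotient.mk p)).IsPrime :=
    Ideal.map_isPrime_of_surjective Ideal.Quotient.mk_surjective (by rwa [Ideal.mk_ker])
  refine ⟨q.map (Ideal.Quotient.mk p), inferInstance, rfl, ?_⟩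
  let BQ := Localization.AtPrime q
  let T := BQ ⧸ p.map (algebraMap A BQ)
  have hmem : ∀ x, Ideal.Quotient.mk p x ∈ q.map (Ideal.Quotient.mk p) ↔ x ∈ q := fun x =>
    Ideal.mem_quotient_iff_mem hpq
  have hM : Algebra.algebraMapSubmonoid (A ⧸ p) q.primeCompl = (q.map (Ideal.Quotient.mk p)).primeCompl := by
    ext y
    constructor
    · rintro ⟨x, hx, rfl⟩
      exact fun h => hx ((hmem x).mp h)
    · intro hy
      obtain ⟨x, rfl⟩ := Ideal.Quotient.mk_surjective y
      exact ⟨x, fun h => hy ((hmem x).mpr h), rfl⟩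
  haveI : IsLocalization.AtPrime T (q.map (Ideal.Quotient.mk p)) := by
    unfold IsLocalization.AtPrime
    rw [← hM]
    infer_instance
  let e : T ≃+* Localization.AtPrime (q.map (Ideal.Quotient.mk p)) :=
    (IsLocalization.algEquiv (q.map (Ideal.Quotient.mk p)).primeCompl T (Localization.AtPrime _)).toRingEquiv
  haveI : IsLocalRing T := IsLocalization.AtPrime.isLocalRing T (q.map (Ideal.Quotient.mk p))
  let E : LocalizedModule q.primeCompl (A ⧸ p) ≃ₗ[BQ] T :=
    LocalizedModule.equivTensorProduct q.primeCompl (A ⧸ p) ≪≫ₗ FlatDepthFormula.tensorQuot (A := A) BQ p ≪≫ₗ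
      Submodule.quotEquivOfEq _ (p.map (algebraMap A BQ)) (by rw [smul_eq_mul, Ideal.mul_top])
  have hs : Function.Surjective (algebraMap BQ T) := Ideal.Quotient.mk_surjective
  refine ⟨?_, ?_⟩
  · show Module.supportDim BQ _ = _
    rw [Module.supportDim_eq_of_equiv E, ← FlatSerre.supportDim_eq_of_surjective T hs,
      Module.supportDim_self_eq_ringKrullDim, ringKrullDim_eq_of_ringEquiv e]
  · show depth BQ _ = _
    rw [depth_congr E, ← depth_eq_of_surjective hs, ← FlatAscent.depth_eq_of_ringEquiv e]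

theorem genCM_of_nonempty_open
    (h : ∀ (p : Ideal A) [p.IsPrime], ∃ U : Set (PrimeSpectrum (A ⧸ p)), IsOpen U ∧ U.Nonempty ∧
      ∀ q ∈ U, IsCohenMacaulayLocalRing (Localization.AtPrime q.asIdeal)) : GenCM A := by
  intro p _
  obtain ⟨U, hUo, ⟨x, hx⟩, hU⟩ := h p
  obtain ⟨_, ⟨g1, rfl⟩, hxg, hgU⟩ := PrimeSpectrum.isTopologicalBasis_basic_opens.exists_subset_of_mem_open hx hUo
  obtain ⟨g1, rfl⟩ := Ideal.Quotient.mk_surjective g1
  refine ⟨g1, fun h => hxg (by rw [Ideal.Quotient.eq_zero_iff_mem.2 h]; exact x.asIdeal.zero_mem),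
    fun q _ hpq hg => ?_⟩
  obtain ⟨Q, _, hQ, e1, e2⟩ := exists_quotient_invariants p q hpq
  rw [e1, e2]
  refine isCohenMacaulayLocalRing_iff.mp (hU ⟨Q, inferInstance⟩ (hgU fun hmem => hg ?_))
  change Ideal.Quotient.mk p g1 ∈ Q at hmem
  rw [hQ] at hmem
  exact (Ideal.mem_quotient_iff_mem hpq).mp hmem

end Groth.Agent.OpenLoci
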